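import Cfsg.Agent.H376.Six.Own
import Cfsg.Agent.H376.Six.Top
import Cfsg.Agent.H376.Six.Def
import Cfsg.Agent.H420.Reduce

/-!
# The glue (helper376)

* `finish_five`, `finish_two` : `S ≃ L'` (one of `C₃(q)`, `B₃(q)`, `D₄(q)`) with the covers and the outer part : `G ≃ L'`.
-/

set_option autoImplicit false

namespace Cfsg.Agent.H376.Six

open Cfsg.Agent.H420.QR

universe u v

variable {G : Type u} [Group G] [Finite G] {K : Subgroup G} [K.Normal] {S : Subgroup (G ⧸ K)} [S.Normal]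

theorem exists_prime_order {L : Type v} [Group L] {n A : ℕ} (h : ∃ x : L, orderOf x = A) (hn : n ∣ A)
    (h1 : ∃ r, r.Prime ∧ r ∣ n) : ∃ x : L, ∃ r, r.Prime ∧ r ∣ n ∧ r ∣ orderOf x := by
  obtain ⟨x, hx⟩ := h
  obtain ⟨r, hr, hrn⟩ := h1
  exact ⟨x, r, hr, hrn, hx ▸ hrn.trans hn⟩

omit [Finite G] in
/-- the orders of `G / K` -/
theorem order_quot {B : ℕ → Prop} (hmono : ∀ {n k : ℕ}, B n → k ∣ n → B k) (hub : ∀ g : G, B (orderOf g)) (x : G ⧸ K) :
    B (orderOf x) := by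
  obtain ⟨g, rfl⟩ := QuotientGroup.mk'_surjective K x
  exact hmono (hub g) (orderOf_map_dvd _ g)

/-- **The end**, `q = 5 ^ m`. -/
theorem finish_five {q : ℕ} (hX : X5 q G) (hR : Red G K S) {L : Type v} [Group L] (e : ↥S ≃* L)
    (hA : ∃ x : L, orderOf x = (q ^ 3 - 1) / 2) (hB : ∃ x : L, orderOf x = (q ^ 3 + 1) / 2)
    (nc : ∀ {H : Type u} [Group H] [Finite H] (V : Subgroup H) [V.Normal] {t : ℕ}, t ≠ 5 → Cov t H V →
      (H ⧸ V ≃* L) → (∀ x : H, UB5 q (orderOf x)) → False)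
    (ow : OwnCov.{v, u} 5 (UB5 q) L)
    (out : ∀ {X : Type u} [Group X] [Finite X] (T : Subgroup X) [T.Normal], Subgroup.centralizer (T : Set X) = ⊥ →
      (↥T ≃* L) → (∀ x : X, UB5 q (orderOf x)) → T = ⊤) : Nonempty (G ≃* L) := by
  obtain ⟨h5, h4⟩ := odd_of_pow_five hX.pow
  have h2 : 2 ≤ q := by omega
  have hK : K = ⊥ := by
    by_contra hK
    obtain ⟨x, r, hr, hra, hrx⟩ := exists_prime_order hA (ap_dvd_half h2 (by omega)) (exists_prime_ap h2)
    obtain ⟨y, s, hs, hsa, hsy⟩ := exists_prime_order hB (am_dvd_half h2 (by omega)) (exists_prime_am (by omega))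
    obtain ⟨H, _, _, V, _, t, hV, ⟨e'⟩, hub⟩ := exists_cov_five hX.pow hX.ub K hR.solv hK S
      ⟨e.symm x, r, hr, hra, by rwa [MulEquiv.orderOf_eq]⟩ ⟨e.symm y, s, hs, hsa, by rwa [MulEquiv.orderOf_eq]⟩
    by_cases ht : t = 5
    · subst ht
      exact own hV (e'.trans e) ow hub
    · exact nc V ht hV (e'.trans e) hub
  have hS : S = ⊤ := out S hR.cent e (order_quot (fun h hk => UB5.mono h hk) hX.ub)
  subst hK
  exact ⟨(QuotientGroup.quotientBot (G := G)).symm.trans ((Subgroup.topEquiv.symm.trans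
    (MulEquiv.subgroupCongr hS.symm)).trans e)⟩

/-- **The end**, `q = 2 ^ m`. -/
theorem finish_two {q : ℕ} (hX : X2 q G) (hR : Red G K S) {L : Type v} [Group L] (e : ↥S ≃* L)
    (hA : ∃ x : L, orderOf x = q ^ 3 - 1) (hB : ∃ x : L, orderOf x = q ^ 3 + 1)
    (nc : ∀ {H : Type u} [Group H] [Finite H] (V : Subgroup H) [V.Normal] {t : ℕ}, t ≠ 2 → Cov t H V →
      (H ⧸ V ≃* L) → (∀ x : H, UB2 q (orderOf x)) → False)
    (ow : OwnCov.{v, u} 2 (UB2 q) L)
    (out : ∀ {X : Type u} [Group X] [Finite X] (T : Subgroup X) [T.Normal], Subgroup.centralizer (T : Set X) = ⊥ →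
      (↥T ≃* L) → (∀ x : X, UB2 q (orderOf x)) → T = ⊤) : Nonempty (G ≃* L) := by
  have h4 : 4 ≤ q := by
    obtain ⟨m, hm, rfl⟩ := hX.pow
    calc 4 = 2 ^ 2 := by norm_num
      _ ≤ 2 ^ m := Nat.pow_le_pow_right (by norm_num) hm
  have h2 : 2 ≤ q := by omega
  have hK : K = ⊥ := by
    by_contra hK
    obtain ⟨x, r, hr, hra, hrx⟩ := exists_prime_order hA (ap_dvd_cube h2) (exists_prime_ap h2)
    obtain ⟨y, s, hs, hsa, hsy⟩ := exists_prime_order hB (am_dvd_cube h2) (exists_prime_am (by omega))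
    obtain ⟨H, _, _, V, _, t, hV, ⟨e'⟩, hub⟩ := exists_cov_two hX.pow hX.ub K hR.solv hK S
      ⟨e.symm x, r, hr, hra, by rwa [MulEquiv.orderOf_eq]⟩ ⟨e.symm y, s, hs, hsa, by rwa [MulEquiv.orderOf_eq]⟩
    by_cases ht : t = 2
    · subst ht
      exact own hV (e'.trans e) ow hub
    · exact nc V ht hV (e'.trans e) hub
  have hS : S = ⊤ := out S hR.cent e (order_quot (fun h hk => UB2.mono h hk) hX.ub)
  subst hK
  exact ⟨(QuotientGroup.quotientBot (G := G)).symm.trans ((Subgroup.topEquiv.symm.trans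
    (MulEquiv.subgroupCongr hS.symm)).trans e)⟩

end Cfsg.Agent.H376.Six
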