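import Cfsg.Agent.H376.Six.Prime
import Cfsg.Agent.H876.Six.NcG2
import Cfsg.Agent.H876.Six.NcG2Two
import Cfsg.Agent.H772.Six.PslTwo
import Cfsg.Agent.H390.B6.FromRed
import Cfsg.Agent.S1059
import Cfsg.Agent.S2121
import Cfsg.Agent.H934.OutB

/-!
# The section is not `G₂(q)` (helper376)
-/

set_option autoImplicit false

namespace Cfsg.Agent.H376.Six

open Cfsg.Agent.H420.QR

universe u v

variable {G : Type u} [Group G] [Finite G] {K : Subgroup G} [K.Normal] {S : Subgroup (G ⧸ K)} [S.Normal]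

theorem charP_of_card {F : Type*} [Field F] [Fintype F] {p m : ℕ} (hp : p.Prime) (hF : Fintype.card F = p ^ m) :
    CharP F p := by
  obtain ⟨r, hr⟩ := CharP.exists F
  obtain ⟨n, hpr, hn⟩ := FiniteField.card F r
  have h1 : r ∣ p ^ m := by rw [← hF, hn]; exact dvd_pow_self r n.pos.ne'
  have h2 := (Nat.prime_dvd_prime_iff_eq hpr hp).1 (hpr.dvd_of_dvd_pow h1)
  rwa [h2] at hr

/-- a primitive prime divides neither `|G₂(q)|` nor `|G / K : S|` -/
theorem g2_prime {F : Type v} [Field F] [Fintype F] {p m : ℕ} (hp : p.Prime) (hp3 : p ≠ 3) (hm : 1 ≤ m)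
    (h3 : 3 ≤ p ^ m) (hF : Fintype.card F = p ^ m) (hR : Red G K S) (e : ↥S ≃* ↥(Cfsg.Lie.chevG2.group F)) {t : ℕ}
    (ht : t.Prime) (htp : ¬ t ∣ p) (hlt : 4 * m < t) (h6 : ¬ t ∣ p ^ (6 * m) - 1) :
    ¬ t ∣ Nat.card ↥S ∧ ¬ t ∣ S.index := by
  have := charP_of_card hp hF
  have := Fact.mk hp
  constructor
  · rw [Nat.card_congr e.toEquiv, Cfsg.Agent.S1059.result (F := F) rfl, hF]
    intro h
    have e6 : (p ^ m) ^ 6 - 1 = p ^ (6 * m) - 1 := by rw [← pow_mul, mul_comm]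
    have h2 : (p ^ m) ^ 2 - 1 ∣ (p ^ m) ^ 6 - 1 := by
      have := Nat.sub_dvd_pow_sub_pow ((p ^ m) ^ 2) 1 3
      rwa [one_pow, ← pow_mul (p ^ m) 2 3] at this
    simp only [ht.dvd_mul] at h
    rcases h with (h | h) | h
    · exact htp (ht.dvd_of_dvd_pow (ht.dvd_of_dvd_pow h))
    · exact h6 (e6 ▸ (h.trans h2))
    · exact h6 (e6 ▸ h)
  · intro h
    have h1 := h.trans (index_dvd_out S hR.cent)
    rw [Cfsg.Agent.H934.OutB.card_out_congr e, Cfsg.Agent.S2121.result (F := F) p m hF h3, if_neg hp3] at h1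
    have := Nat.le_of_dvd (by omega) h1
    omega

/-- **The section is not `G₂(q)`**, `q = 5 ^ m`. -/
theorem not_g2_five (htop : TopPrime.{u}) {F : Type v} [Field F] [Fintype F] (hX : X5 (Fintype.card F) G) (hR : Red G K S)
    (e : ↥S ≃* ↥(Cfsg.Lie.chevG2.group F)) : False := by
  obtain ⟨m, hm, hF⟩ := hX.pow
  obtain ⟨t, ht, ht2, htp, hd, hlt, h6, -⟩ := Cfsg.Agent.H772.Six.exists_prime (p := 5) (by norm_num) hm (fun h => by omega)
  have h5 : 5 ≤ 5 ^ m := by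
    calc 5 = 5 ^ 1 := (pow_one 5).symm
      _ ≤ 5 ^ m := Nat.pow_le_pow_right (by norm_num) hm
  obtain ⟨h1, h2⟩ := g2_prime (F := F) (p := 5) (by norm_num) (by norm_num) hm (by omega) hF hR e ht htp hlt h6
  rw [← hF] at hd
  have hd2 : t ∣ (Fintype.card F ^ 2 + 1) / 2 := by
    have h3 : Fintype.card F ^ 2 % 2 = 1 := by
      rw [hF, ← pow_mul, Nat.pow_mod]; norm_num
    have h4 : Fintype.card F ^ 2 + 1 = 2 * ((Fintype.card F ^ 2 + 1) / 2) := by omega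
    rw [h4] at hd
    rcases ht.dvd_mul.1 hd with h | h
    · exact absurd ((Nat.prime_dvd_prime_iff_eq ht Nat.prime_two).1 h) ht2
    · exact h
  obtain ⟨H, _, _, V, _, hV, ⟨e'⟩, hub⟩ := exists_cov_prime_five htop hX hR ht hd2 h1 h2
  exact Cfsg.Agent.H876.Six.nc_g2 hm hF V hd2 hV (e'.trans e) hub

/-- **The section is not `G₂(q)`**, `q = 2 ^ m`. -/
theorem not_g2_two (htop : TopPrime.{u}) {F : Type v} [Field F] [Fintype F] (hX : X2 (Fintype.card F) G) (hR : Red G K S)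
    (e : ↥S ≃* ↥(Cfsg.Lie.chevG2.group F)) : False := by
  obtain ⟨m, hm, hF⟩ := hX.pow
  obtain ⟨t, ht, ht2, htp, hd, hlt, h6, -⟩ := Cfsg.Agent.H772.Six.exists_prime (p := 2) Nat.prime_two (by omega : 1 ≤ m)
    (fun _ => hm)
  have h5 : 4 ≤ 2 ^ m := by
    calc 4 = 2 ^ 2 := by norm_num
      _ ≤ 2 ^ m := Nat.pow_le_pow_right (by norm_num) hm
  obtain ⟨h1, h2⟩ := g2_prime (F := F) Nat.prime_two (by norm_num) (by omega) (by omega) hF hR e ht htp hlt h6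
  rw [← hF] at hd
  obtain ⟨H, _, _, V, _, hV, ⟨e'⟩, hub⟩ := exists_cov_prime_two htop hX hR ht hd h1 h2
  exact Cfsg.Agent.H876.Six.nc_g2_two hm hF V hd hV (e'.trans e) hub

end Cfsg.Agent.H376.Six
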