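import Cfsg.Agent.H376.Six.Cover
import Cfsg.Agent.H373.Recog

/-!
# Own characteristic (helper376)

* `own` : `V` an abelian normal subgroup of prime exponent `p` of `H`, `H / V ≃ L`; if every `L`-module of
  characteristic `p` has an `x` with nonzero norm and `p |x|` not allowed, then this is a contradiction.
-/

set_option autoImplicit false

namespace Cfsg.Agent.H376.Six

open Finset Cfsg.Agent.H371.Frob Cfsg.Agent.H373.Recog

universe u v w

/-- every `L`-module of characteristic `p` has an element `x` with nonzero norm and `p |x|` is not in `B` -/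
def OwnCov (p : ℕ) (B : ℕ → Prop) (L : Type v) [Group L] : Prop :=
  ∀ (V : Type w) [AddCommGroup V] [Finite V] [Nontrivial V], (∀ v : V, p • v = 0) →
    ∀ φ : L →* AddMonoid.End V, ∃ (x : L) (v : V), ∑ i ∈ range (orderOf x), φ (x ^ i) v ≠ 0 ∧ ¬ B (p * orderOf x)

/-- **An element of order `p * orderOf x`.** -/
theorem exists_of_ownCov {H : Type u} [Group H] [Finite H] (V : Subgroup H) [V.Normal]
    (hVc : ∀ x ∈ V, ∀ y ∈ V, x * y = y * x) {p : ℕ} (hp : p.Prime) (hVp : ∀ x ∈ V, x ^ p = 1) (hne : V ≠ ⊥)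
    {L : Type v} [Group L] (f : L ≃* H ⧸ V) {B : ℕ → Prop} (hcov : OwnCov.{v, u} p B L) :
    ∃ h : H, ¬ B (orderOf h) := by
  have hV : IsMulCommutative V := ⟨⟨fun a b => Subtype.ext (hVc a a.2 b b.2)⟩⟩
  let _ : CommGroup V := { (inferInstance : Group V) with mul_comm := fun a b => Subtype.ext (hVc a a.2 b b.2) }
  have hnt : Nontrivial (Additive V) := by
    have : Nontrivial V := (Subgroup.nontrivial_iff_ne_bot V).2 hne
    exact inferInstanceAs (Nontrivial V)
  have hfinV : Finite (Additive V) := inferInstanceAs (Finite V)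
  let φ : L →* AddMonoid.End (Additive V) := act V hV f.toMonoidHom (fun a b => rfl)
  have hφ : ∀ (l : L) (g : H), (g : H ⧸ V) = f l → ∀ v : V, (((φ l (Additive.ofMul v)).toMul : V) : H) = g * v * g⁻¹ := by
    intro l g hg v
    show ((quotAct V hV (f l) v : V) : H) = _
    rw [← hg]
    exact quotAct_mk V hV g v
  obtain ⟨x, v, hsum, hno⟩ := hcov (Additive V) (fun v => by
    show Additive.ofMul (v.toMul ^ p) = 0
    have h1 : v.toMul ^ p = 1 := Subtype.ext (hVp _ v.toMul.2)
    rw [h1]; rfl) φ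
  obtain ⟨g, hg⟩ := QuotientGroup.mk_surjective (f x)
  set m := orderOf x with hm
  -- powers
  have hpow : ∀ (z : V) (k : ℕ), ((z : H) * g) ^ k =
      (((∑ i ∈ range k, φ (x ^ i) (Additive.ofMul z)).toMul : V) : H) * g ^ k := by
    intro z k
    induction k with
    | zero => rw [pow_zero, pow_zero, range_zero, sum_empty, mul_one]; rfl
    | succ k ih =>
      rw [pow_succ, ih, sum_range_succ]
      have h1 : ((g ^ k : H) : H ⧸ V) = f (x ^ k) := by rw [QuotientGroup.mk_pow, hg, map_pow]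
      have h2 := hφ (x ^ k) (g ^ k) h1 z
      show _ = ((((∑ i ∈ range k, φ (x ^ i) (Additive.ofMul z)).toMul * (φ (x ^ k) (Additive.ofMul z)).toMul : V)) : H) * g ^ (k + 1)
      rw [Subgroup.coe_mul, h2, pow_succ]
      group
  have hordf : orderOf (f x) = m := MulEquiv.orderOf_eq f x
  have hgm : g ^ m ∈ V := by
    rw [← QuotientGroup.eq_one_iff, QuotientGroup.mk_pow, hg, ← hordf, pow_orderOf_eq_one]
  -- the element
  obtain ⟨h, hh, hhm⟩ : ∃ h : H, (h : H ⧸ V) = f x ∧ h ^ m ≠ 1 := by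
    by_cases h1 : g ^ m = 1
    · refine ⟨((v.toMul : V) : H) * g, ?_, ?_⟩
      · rw [QuotientGroup.mk_mul, hg, (QuotientGroup.eq_one_iff _).2 v.toMul.2, one_mul]
      · rw [hpow, h1, mul_one]
        intro h2
        apply hsum
        have h3 : (∑ i ∈ range m, φ (x ^ i) v).toMul = (1 : V) := Subtype.ext h2
        exact congrArg Additive.ofMul h3
    · exact ⟨g, hg, h1⟩
  have hhV : h ^ m ∈ V := by
    rw [← QuotientGroup.eq_one_iff, QuotientGroup.mk_pow, hh, ← hordf, pow_orderOf_eq_one]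
  refine ⟨h, ?_⟩
  have h1 : m ∣ orderOf h := by
    rw [← hordf, ← hh]
    exact orderOf_map_dvd (QuotientGroup.mk' V) h
  have h2 : orderOf h ∣ m * p := by
    apply orderOf_dvd_of_pow_eq_one
    rw [pow_mul, hVp _ hhV]
  obtain ⟨j, hj⟩ := h1
  have hmpos : 0 < m := by
    rcases Nat.eq_zero_or_pos m with h0 | h0
    · rw [h0, zero_mul] at hj
      have := orderOf_pos h
      omega
    · exact h0
  rw [hj] at h2
  rcases (Nat.dvd_prime hp).1 (Nat.dvd_of_mul_dvd_mul_left hmpos h2) with h3 | h3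
  · exfalso
    apply hhm
    rw [h3, mul_one] at hj
    rw [← hj, pow_orderOf_eq_one]
  · rw [hj, h3, mul_comm]
    exact hno

/-- **Own characteristic.** -/
theorem own {H : Type u} [Group H] [Finite H] {V : Subgroup H} [V.Normal] {p : ℕ} (hV : Cov p H V) {L : Type v}
    [Group L] (e : H ⧸ V ≃* L) {B : ℕ → Prop} (hcov : OwnCov.{v, u} p B L) (hub : ∀ x : H, B (orderOf x)) : False := by
  obtain ⟨h, hh⟩ := exists_of_ownCov V hV.comm hV.prime hV.pow (by
    rintro rfl
    obtain ⟨v, hv, g, hg⟩ := hV.nc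
    rw [Subgroup.mem_bot] at hv
    exact hg (by rw [hv, mul_one, one_mul])) e.symm hcov
  exact hh (hub h)

end Cfsg.Agent.H376.Six
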