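import Cfsg.Agent.H376.Six.NcPlusFive
import Cfsg.Agent.H970.Cov.B3
import Cfsg.Agent.H425.OF.D4
import Cfsg.Agent.H552.TopPrime
import Cfsg.Agent.H376.Six.Gtwo
import Cfsg.Agent.H376.Six.Glue
import Cfsg.Agent.H376.Six.LSide
import Cfsg.Agent.H382.Own5B
import Cfsg.Agent.H390.B6.Dispatch
import Cfsg.Agent.H411.Six.NC
import Cfsg.Agent.H772.Six.OutC3
import Cfsg.Agent.S2362

/-!
# The recognition, `q = 5 ^ m` (helper376)

* `main_five` : `ω(G) = ω(L)`, `L` one of `PSp₆(q)`, `PΩ₇(q)`, `PΩ₈⁺(q)`, `q = 5 ^ m` : `G` is one of them;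
* `b3_five`, `c3_five`, `d4_five` : `G ≃ L`.
-/

set_option autoImplicit false

namespace Cfsg.Agent.H376.Six

open Cfsg Cfsg.Agent.H420.QR

universe u v w

theorem main_five (rows : Rows5.{u}) {F : Type v} [Field F] [Fintype F] {m : ℕ} (hm : 1 ≤ m)
    (hF : Fintype.card F = 5 ^ m) {L : Type w}
    [Group L] [Finite L] (hL : LHyp F L) {G : Type u} [Group G] [Finite G]
    (h : Set.range (orderOf : G → ℕ) = Set.range (orderOf : L → ℕ)) (hX : X5 (Fintype.card F) G) :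
    Nonempty (G ≃* POmega F (quadFormOdd 3 F)) ∨ Nonempty (G ≃* PSp 3 F) ∨
      Nonempty (G ≃* POmega F (quadFormPlus 4 F)) := by
  have := charP_of_card Nat.prime_five hF
  obtain ⟨K, _, S, _, hR⟩ := hX.exists_red
  rcases sect_five rows hL h hX hR with ⟨⟨e⟩⟩ | ⟨⟨e⟩⟩ | ⟨⟨e⟩⟩ | ⟨⟨e⟩⟩
  · exact Or.inl (finish_five hX hR e (x5_b3 F hm hF).a (x5_b3 F hm hF).b
      (fun V _ _ ht hV e' hub => H970.Cov.nc_b3 hm hF V ht hV e' hub) H382.Own5.ownCov_odd
      (fun T _ hc e' hub => H425.OF.out_b3 hm hF T hc e' hub))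
  · exact Or.inr (Or.inl (finish_five hX hR e (x5_c3 F hm hF).a (x5_c3 F hm hF).b
      (fun V _ _ ht hV e' hub => H411.Six.nc_c3 hm hF V ht hV e' hub) H382.Own5.ownCov_sp
      (fun T _ hc e' hub => H772.Six.out_c3 hm hF T hc e' hub)))
  · exact Or.inr (Or.inr (finish_five hX hR e (x5_d4 F hm hF).a (x5_d4 F hm hF).b
      (fun V _ _ ht hV e' hub => nc_d4 hm hF V ht hV e' hub) H382.Own5.ownCov_plus
      (fun T _ hc e' hub => H425.OF.out_d4 hm hF T hc e' hub)))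
  · exact (not_g2_five @Cfsg.Agent.H552.TopPrime.top_prime hX hR e).elim

theorem range_of_equiv {X Y : Type*} [Group X] [Group Y] (e : X ≃* Y) :
    Set.range (orderOf : X → ℕ) = Set.range (orderOf : Y → ℕ) := by
  ext m
  constructor
  · rintro ⟨x, rfl⟩
    exact ⟨e x, MulEquiv.orderOf_eq e x⟩
  · rintro ⟨y, rfl⟩
    exact ⟨e.symm y, MulEquiv.orderOf_eq e.symm y⟩

theorem odd_of_five {F : Type v} [Fintype F] {m : ℕ} (hF : Fintype.card F = 5 ^ m) : Odd (Fintype.card F) := by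
  rw [hF]
  exact Odd.pow (by decide)

/-- **S3470.** -/
theorem b3_five (rows : Rows5.{u}) {F : Type v} [Field F] [Fintype F] {m : ℕ} (hm : 1 ≤ m)
    (hF : Fintype.card F = 5 ^ m) {G : Type u} [Group G] [Finite G]
    (h : Set.range (orderOf : G → ℕ) = Set.range (orderOf : POmega F (quadFormOdd 3 F) → ℕ)) :
    Nonempty (G ≃* POmega F (quadFormOdd 3 F)) := by
  rcases main_five rows hm hF (Or.inr (Or.inl ⟨odd_of_five hF, ⟨MulEquiv.refl _⟩⟩)) h ((x5_b3 F hm hF).of_range h)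
    with h1 | ⟨⟨e⟩⟩ | ⟨⟨e⟩⟩
  · exact h1
  · exact absurd (h.symm.trans (range_of_equiv e)) (Cfsg.Agent.S2362.result (odd_of_five hF) 3 le_rfl)
  · exfalso
    obtain ⟨g, hg⟩ := H206.LowPlus.five_e (F := F) hF
    obtain ⟨x, hx⟩ := exists_of_range h.symm ⟨e.symm g, rfl⟩
    rw [MulEquiv.orderOf_eq, hg] at hx
    exact H970.Om7.ne hm hF x hx

/-- **S3467, `q = 5 ^ m`.** -/
theorem c3_five (rows : Rows5.{u}) {F : Type v} [Field F] [Fintype F] {m : ℕ} (hm : 1 ≤ m)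
    (hF : Fintype.card F = 5 ^ m) {G : Type u} [Group G] [Finite G]
    (h : Set.range (orderOf : G → ℕ) = Set.range (orderOf : PSp 3 F → ℕ)) : Nonempty (G ≃* PSp 3 F) := by
  rcases main_five rows hm hF (Or.inl ⟨MulEquiv.refl _⟩) h ((x5_c3 F hm hF).of_range h) with ⟨⟨e⟩⟩ | h1 | ⟨⟨e⟩⟩
  · exact absurd ((range_of_equiv e).symm.trans h) (Cfsg.Agent.S2362.result (odd_of_five hF) 3 le_rfl)
  · exact h1
  · exfalso
    obtain ⟨g, hg⟩ := H206.LowPlus.five_e (F := F) hF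
    obtain ⟨x, hx⟩ := exists_of_range h.symm ⟨e.symm g, rfl⟩
    rw [MulEquiv.orderOf_eq, hg] at hx
    exact H411.Six.ne_five hm hF x hx

/-- **S3471, `q = 5 ^ m`.** -/
theorem d4_five (rows : Rows5.{u}) {F : Type v} [Field F] [Fintype F] {m : ℕ} (hm : 1 ≤ m)
    (hF : Fintype.card F = 5 ^ m) {G : Type u} [Group G] [Finite G]
    (h : Set.range (orderOf : G → ℕ) = Set.range (orderOf : POmega F (quadFormPlus 4 F) → ℕ)) :
    Nonempty (G ≃* POmega F (quadFormPlus 4 F)) := by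
  obtain ⟨g, hg⟩ := exists_of_range h (H206.LowPlus.five_e (F := F) hF)
  rcases main_five rows hm hF (Or.inr (Or.inr ⟨MulEquiv.refl _⟩)) h ((x5_d4 F hm hF).of_range h)
    with ⟨⟨e⟩⟩ | ⟨⟨e⟩⟩ | h1
  · exact absurd (by rw [MulEquiv.orderOf_eq, hg]) (H970.Om7.ne hm hF (e g))
  · exact absurd (by rw [MulEquiv.orderOf_eq, hg]) (H411.Six.ne_five hm hF (e g))
  · exact h1

end Cfsg.Agent.H376.Six
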