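import Cfsg.Agent.H376.Six.Cover
import Cfsg.Agent.H411.Six.NC
import Cfsg.Agent.H382.SpOm
import Cfsg.Agent.H231.FxCov
import Cfsg.Agent.S0296

/-!
# No cover of `PΩ₈⁺(q)`, `q` even, in the other characteristics (helper376, task N2, after helper411)
-/

set_option autoImplicit false

namespace Cfsg.Agent.H376.Six

open Cfsg

/-- **N2, characteristic 2.** -/
theorem nc_d4_two {F : Type*} [Field F] [Fintype F] {m : ℕ} (hm : 2 ≤ m) (hF : Fintype.card F = 2 ^ m) {H : Type*}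
    [Group H] [Finite H] (V : Subgroup H) [V.Normal] {t : ℕ} (ht2 : t ≠ 2) (hV : Cov t H V)
    (e : H ⧸ V ≃* POmega F (quadFormPlus 4 F)) (hub : ∀ x : H, UB2 (Fintype.card F) (orderOf x)) : False := by
  have hch : CharP F 2 := by
    obtain ⟨r, hr⟩ := CharP.exists F
    obtain ⟨n, hpr, hn⟩ := FiniteField.card F r
    have h1 : r ∣ 2 ^ m := by rw [← hF, hn]; exact dvd_pow_self r n.pos.ne'
    have h2 := (Nat.prime_dvd_prime_iff_eq hpr Nat.prime_two).1 (hpr.dvd_of_dvd_pow h1)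
    rwa [h2] at hr
  have hs : IsSimpleGroup (POmega F (quadFormPlus 4 F)) := Cfsg.Agent.S0296.result 4 (by norm_num)
  obtain ⟨E, iE, iF, hE, ψ, hψ⟩ := Cfsg.Agent.H411.Six.Emb.exists_field F 3
  have hz : Subgroup.center (Matrix.symplecticGroup (Fin 3) F) = ⊥ := Cfsg.Agent.H403.center_symplectic (by norm_num)
  let j : PSp 3 F ≃* Matrix.symplecticGroup (Fin 3) F :=
    (QuotientGroup.quotientMulEquivOfEq hz).trans QuotientGroup.quotientBot
  obtain ⟨f, hf⟩ := Cfsg.Agent.H382.SpOm.sp_in_plus (F := F) (n := 4) le_rfl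
  obtain ⟨y, hy⟩ := Cfsg.Agent.H411.Six.exists_orderOf_psl ((f.comp j.toMonoidHom).comp ψ)
    ((hf.comp j.injective).comp hψ) V hV (by
      rw [hE, hF, ← pow_mul]
      exact Nat.Coprime.pow_left _ ((Nat.coprime_primes Nat.prime_two hV.prime).2 ht2.symm)) e
  rw [hE] at hy
  have h4 : 4 ≤ Fintype.card F := by
    rw [hF]
    calc 4 = 2 ^ 2 := by norm_num
      _ ≤ 2 ^ m := Nat.pow_le_pow_right (by norm_num) hm
  have hg : Nat.gcd 2 (Fintype.card F ^ 3 - 1) = 1 := by
    have h1 : 2 ∣ Fintype.card F ^ 3 := by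
      rw [hF, ← pow_mul]; exact dvd_pow_self 2 (by omega)
    have h2 : 0 < Fintype.card F ^ 3 := by positivity
    have h3 : Odd (Fintype.card F ^ 3 - 1) := by
      rw [Nat.odd_iff]; omega
    exact Nat.coprime_two_left.2 h3
  rw [hg, Nat.div_one] at hy
  have h2 := hub y
  rw [hy] at h2
  exact Cfsg.Agent.H411.Six.arith_two h4 hV.prime.two_le h2

end Cfsg.Agent.H376.Six
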