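import Cfsg.Agent.H390.B6.Dispatch
import Cfsg.Agent.H60.SixLow
import Cfsg.Agent.H60.SixSzRee
import Cfsg.Agent.H481.Six.Three
import Cfsg.Agent.H126.Six.PSL
import Cfsg.Agent.H127.Six.Psu
import Cfsg.Agent.H424.Six.Psp
import Cfsg.Agent.H424.Six.OoddKill
import Cfsg.Agent.H157.Six.Orth
import Cfsg.Agent.H371.Six.G2
import Cfsg.Agent.H371.Six.F4
import Cfsg.Agent.H876.Six.Td4
import Cfsg.Agent.H228.Six.TwF
import Cfsg.Agent.H75.M5hExc
import Cfsg.Agent.H75.M5hSixExc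
import Cfsg.Agent.H75.M5hTE6

/-!
# The rows, `q = 5 ^ m` (helper376, block 6)
-/

set_option autoImplicit false

namespace Cfsg.Agent.H376.Six

open Cfsg Cfsg.Agent.H420.QR Cfsg.Agent.OrdDiv Cfsg.Agent.H436

universe u v w

/-- **The rows, `q = 5 ^ m`.** -/
theorem rows5 : Rows5.{u} where
  psl_two := fun ho h4 h => Cfsg.Agent.H60.Six5.psl_two ho h4 h
  psl_three := fun ho h => Cfsg.Agent.H481.Six.psl_three ho h
  psl := fun ho hn h => Cfsg.Agent.H126.Six.psl ho hn h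
  psp_two := fun ho h3 h => Cfsg.Agent.H60.Six5.psp_two ho h3 h
  psp := fun ho hn h => Cfsg.Agent.H424.Six.psp ho hn h
  psu_three := fun hF ho h3 h => Cfsg.Agent.H481.Six.psu_three hF ho h3 h
  psu := fun hF ho hn h => Cfsg.Agent.H127.Six.psu hF ho hn h
  oodd := fun h5 ho hn h => Cfsg.Agent.H424.Six.oodd h5 ho hn h
  oplus := fun ho hn h => Cfsg.Agent.H157.Six.oplus ho hn h
  ominus := fun ho hn _ _ hab h => Cfsg.Agent.H157.Six.ominus ho hn hab h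
  g2 := fun ho h3 h => Cfsg.Agent.H371.Six.g2 ho h3 h
  f4 := fun ho h => Cfsg.Agent.H371.Six.f4 ho h
  e6 := fun ho h => Cfsg.Agent.H75.M5h.e6 ho h
  e7 := fun ho h => Cfsg.Agent.H75.M5h.e7 ho h
  e8 := fun ho h => Cfsg.Agent.H75.M5h.e8 ho h
  te6 := fun hS h5 h => Cfsg.Agent.H75.M5h.te6 hS h5 h
  td4 := fun hS h5 h => Cfsg.Agent.H876.Six.Td.td4 hS h5 h
  tf4 := fun hS h => Cfsg.Agent.H228.Six.tf4 hS h
  sz := fun hS h => Cfsg.Agent.H60.Six5.suzuki (by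
    obtain ⟨F, i1, i2, m, hm, hF, hq, e⟩ := hS.real
    exact ⟨F, i1, i2, m, hm, hF.trans hq, e⟩) h
  ree := fun hS h => Cfsg.Agent.H60.Six5.ree (by
    obtain ⟨F, i1, i2, m, hm, hF, hq, e⟩ := hS.real
    exact ⟨F, i1, i2, m, hm, hF.trans hq, e⟩) h

end Cfsg.Agent.H376.Six
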