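import Cfsg.Agent.H376.Six.Cover
import Cfsg.Agent.H411.Six.NC
import Cfsg.Agent.H982.LawFam
import Cfsg.Agent.H377.ToOmega
import Cfsg.Agent.S0296

/-!
# No cover of `PΩ₈⁺(5 ^ m)` in the other characteristics (helper376, task N2)
-/

set_option autoImplicit false

namespace Cfsg.Agent.H376.Six

open Cfsg Cfsg.Agent.H371 Cfsg.Agent.H411.Six

/-- the Frobenius argument with the Frobenius group in an abstract group `B` -/
theorem exists_orderOf_frob {B X H : Type*} [Group B] [Group X] [Group H] [Finite H] [IsSimpleGroup X] (Θ : B →* X)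
    (hΘ : Function.Injective Θ) (V : Subgroup H) [V.Normal] {t : ℕ} (hV : Cov t H V) (e : H ⧸ V ≃* X)
    (U : Subgroup B) (c : B) (hn : ∀ a ∈ U, c * a * c⁻¹ ∈ U)
    (hfix : ∀ i, 0 < i → i < orderOf c → ∀ a ∈ U, c ^ i * a = a * c ^ i → a = 1)
    (hcop : (Nat.card U).Coprime t) (hU : U ≠ ⊥) : ∃ y : H, orderOf y = orderOf c * t := by
  obtain ⟨φ, hφ⟩ : ∃ φ : B →* H ⧸ V, Function.Injective φ :=
    ⟨e.symm.toMonoidHom.comp Θ, fun a b h => hΘ (e.symm.injective h)⟩
  rw [← orderOf_injective φ hφ c]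
  refine Frob.exists_orderOf (G := H) V ⟨⟨fun a b => Subtype.ext (hV.comm a a.2 b b.2)⟩⟩ hV.prime
    hV.pow (U.map φ) (c := φ c) ?_ ?_ ?_ ?_
  · rintro _ ⟨a, ha, rfl⟩
    exact ⟨c * a * c⁻¹, hn a ha, by simp⟩
  · rintro i hi0 hi _ ⟨a, ha, rfl⟩ h
    rw [orderOf_injective φ hφ c] at hi
    rw [← map_pow, ← map_mul, ← map_mul] at h
    rw [hfix i hi0 hi a ha (hφ h), map_one]
  · rw [Subgroup.card_map_of_injective hφ]
    exact hcop
  · obtain ⟨a, ha, ha1⟩ := (Subgroup.bot_or_exists_ne_one U).resolve_left hU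
    obtain ⟨x, hx⟩ := QuotientGroup.mk_surjective (φ a)
    have h3 : (x : H ⧸ V) ≠ 1 := by
      rw [hx]
      intro h
      exact ha1 (hφ (h.trans (map_one φ).symm))
    obtain ⟨v, hv, hxv⟩ := Cov.exists_ne hV e h3
    exact ⟨x, by rw [hx]; exact ⟨a, ha, rfl⟩, v, hv, hxv⟩

section aff

variable (F E : Type*) [Field F] [Field E] [Algebra F E]

/-- multiplications on `E`, on `F × E` -/
def dgE : E →* Module.End F (F × E) where
  toFun u := LinearMap.prodMap LinearMap.id (LinearMap.mulLeft F u)
  map_one' := by ext <;> simp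
  map_mul' a b := by ext <;> simp

/-- the translations -/
def upE : Multiplicative E →* Module.End F (F × E) where
  toFun b := LinearMap.id + (LinearMap.inr F F E).comp ((LinearMap.toSpanSingleton F E b.toAdd).comp (LinearMap.fst F F E))
  map_one' := by ext <;> simp
  map_mul' a b := by ext <;> simp [add_comm]

variable {F E}

@[simp] theorem dgE_apply (u : E) (v : F × E) : dgE F E u v = (v.1, u * v.2) := rfl

@[simp] theorem upE_apply (b : Multiplicative E) (v : F × E) : upE F E b v = (v.1, v.2 + v.1 • b.toAdd) := by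
  obtain ⟨a, x⟩ := v
  simp [upE]

theorem dgE_upE (u b : E) : dgE F E u * upE F E (Multiplicative.ofAdd b) =
    upE F E (Multiplicative.ofAdd (u * b)) * dgE F E u := by
  refine LinearMap.ext fun v => ?_
  simp only [Module.End.mul_apply, upE_apply, dgE_apply, toAdd_ofAdd, mul_add, mul_smul_comm]

theorem upE_injective : Function.Injective (upE F E) := by
  intro a b h
  have h1 := LinearMap.congr_fun h (1, 0)
  simpa using h1

theorem dgE_injective : Function.Injective (dgE F E) := by
  intro a b h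
  have h1 := LinearMap.congr_fun h (0, 1)
  simpa using h1

end aff

section main

open Cfsg.Agent.LieClassical.OrthCore Cfsg.Agent.LieClassical.OrthForms Cfsg.Agent.H377 Cfsg.Agent.H982.LawFam

variable {F E : Type*} [Field F] [Field E] [Algebra F E]

/-- linear maps of `F × E` as isometries -/
noncomputable def gam (b4 : Module.Basis (Fin 4) F (F × E)) : (Module.End F (F × E))ˣ →* isometryGroup F (quadFormPlus 4 F) :=
  (gPlus F 4).comp (Units.map (LinearMap.toMatrixAlgEquiv b4).toMonoidHom)

theorem gam_injective (b4 : Module.Basis (Fin 4) F (F × E)) : Function.Injective (gam b4) := by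
  refine (gPlus_injective F 4).comp ?_
  intro x y h
  apply Units.ext
  exact (LinearMap.toMatrixAlgEquiv b4).injective (congrArg Units.val h)

theorem gam_eq_neg_one (b4 : Module.Basis (Fin 4) F (F × E)) {x : (Module.End F (F × E))ˣ}
    (h : (((gam b4 x : isometryGroup F (quadFormPlus 4 F)) : Matrix.GeneralLinearGroup (Fin 4 ⊕ Fin 4) F) :
      Matrix (Fin 4 ⊕ Fin 4) (Fin 4 ⊕ Fin 4) F) = -1) :
    (x : Module.End F (F × E)) = -1 := by
  have h1 : hyp F 4 (Units.map (LinearMap.toMatrixAlgEquiv b4).toMonoidHom x) = -1 := h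
  have h2 : LinearMap.toMatrixAlgEquiv b4 (x : Module.End F (F × E)) = -1 := by
    have h3 : (-1 : Matrix (Fin 4 ⊕ Fin 4) (Fin 4 ⊕ Fin 4) F) = Matrix.fromBlocks (-1) (-0) (-0) (-1) := by
      rw [← Matrix.fromBlocks_neg, Matrix.fromBlocks_one]
    rw [h3] at h1
    exact (Matrix.fromBlocks_inj.1 h1).1
  apply (LinearMap.toMatrixAlgEquiv b4).injective
  rw [h2, map_neg, map_one]

/-- the elements which preserve the first coordinate and lie in `Omega` -/
def Aff (b4 : Module.Basis (Fin 4) F (F × E)) : Subgroup (Module.End F (F × E))ˣ where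
  carrier := {x | (∀ v, ((x : Module.End F (F × E)) v).1 = v.1) ∧ gam b4 x ∈ Omega F (quadFormPlus 4 F)}
  one_mem' := ⟨fun v => rfl, by rw [map_one]; exact one_mem _⟩
  mul_mem' {a b} ha hb := ⟨fun v => by
    rw [Units.val_mul, Module.End.mul_apply, ha.1, hb.1], by rw [map_mul]; exact mul_mem ha.2 hb.2⟩
  inv_mem' {a} ha := ⟨fun v => by
    rw [← ha.1, ← Module.End.mul_apply, ← Units.val_mul, mul_inv_cancel]; rfl, by rw [map_inv]; exact inv_mem ha.2⟩

/-- the homomorphism -/
noncomputable def Tht (b4 : Module.Basis (Fin 4) F (F × E)) : Aff b4 →* POmega F (quadFormPlus 4 F) :=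
  (QuotientGroup.mk' _).comp (MonoidHom.codRestrict ((gam b4).comp (Aff b4).subtype) (Omega F (quadFormPlus 4 F))
    fun x => x.2.2)

theorem Tht_injective [Finite F] (h2 : (2 : F) ≠ 0) (b4 : Module.Basis (Fin 4) F (F × E)) :
    Function.Injective (Tht b4) := by
  rw [injective_iff_map_eq_one]
  intro x hx
  have h1 : (MonoidHom.codRestrict ((gam b4).comp (Aff b4).subtype) (Omega F (quadFormPlus 4 F))
    fun x => x.2.2) x ∈ Subgroup.center (Omega F (quadFormPlus 4 F)) := (QuotientGroup.eq_one_iff _).1 hx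
  have h3 := (Cfsg.Agent.LieClassical.OrthCenter.mem_center_omega_iff (Q := plusForm 4 F)
    (nondegenerate_of_nondeg (nondeg_plusForm 4 F)) (by simp) ⟨Pi.single (Sum.inl 0) 1, by simp, by
      rw [coe_plusForm, quadFormPlus_apply]
      refine Finset.sum_eq_zero fun i _ => ?_
      simp⟩ _).1 h1
  rcases h3 with h3 | h3
  · apply Subtype.ext
    apply gam_injective b4
    apply Subtype.ext
    apply Units.ext
    refine Eq.trans h3 ?_
    rw [OneMemClass.coe_one, map_one]
    rfl
  · exfalso
    have h4 : ((x : (Module.End F (F × E))ˣ) : Module.End F (F × E)) = -1 := gam_eq_neg_one b4 h3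
    have h5 := x.2.1 (1, 0)
    rw [h4] at h5
    have h6 : (-1 : F) = 1 := h5
    apply h2
    linear_combination -h6

/-- squares -/
theorem gam_sq_mem [Finite F] (b4 : Module.Basis (Fin 4) F (F × E)) (x : (Module.End F (F × E))ˣ) :
    gam b4 (x * x) ∈ Omega F (quadFormPlus 4 F) := by
  rw [map_mul]
  exact mul_self_mem_Omega (plusForm 4 F) (nondeg_plusForm 4 F) (by simp) (gam b4 x)

variable (F E) in
/-- multiplications, as units -/
def dgU : Eˣ →* (Module.End F (F × E))ˣ := Units.map (dgE F E)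

variable (F E) in
/-- translations, as units -/
def upU : Multiplicative E →* (Module.End F (F × E))ˣ := (upE F E).toHomUnits

theorem dgU_injective : Function.Injective (dgU F E) := by
  intro x y h
  apply Units.ext
  exact dgE_injective (congrArg Units.val h)

theorem upU_injective : Function.Injective (upU F E) := by
  intro x y h
  exact upE_injective (congrArg Units.val h)

theorem dgU_upU (u : Eˣ) (b : E) : dgU F E u * upU F E (Multiplicative.ofAdd b) =
    upU F E (Multiplicative.ofAdd (u * b)) * dgU F E u := Units.ext (dgE_upE _ _)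

/-- the translations in `Aff` -/
noncomputable def upA [Finite F] (h2 : (2 : F) ≠ 0) (b4 : Module.Basis (Fin 4) F (F × E)) : Multiplicative E →* Aff b4 :=
  (upU F E).codRestrict _ fun b => ⟨fun v => by
    change (upE F E b v).1 = v.1
    rw [upE_apply], by
    have h3 : (2 : E) ≠ 0 := by
      have := (map_ne_zero (algebraMap F E)).2 h2
      rwa [map_ofNat] at this
    have h4 : b = Multiplicative.ofAdd (b.toAdd / 2) * Multiplicative.ofAdd (b.toAdd / 2) := by
      rw [← ofAdd_add, ← two_mul, mul_div_cancel₀ _ h3]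
      rfl
    rw [h4, map_mul]
    exact gam_sq_mem b4 _⟩

/-- the multiplication in `Aff` -/
noncomputable def cA [Finite F] (b4 : Module.Basis (Fin 4) F (F × E)) (g : Eˣ) : Aff b4 :=
  ⟨dgU F E g * dgU F E g, fun _ => rfl, gam_sq_mem b4 _⟩

theorem cA_eq [Finite F] (b4 : Module.Basis (Fin 4) F (F × E)) (g : Eˣ) (i : ℕ) :
    ((cA b4 g ^ i : Aff b4) : (Module.End F (F × E))ˣ) = dgU F E (g ^ (2 * i)) := by
  rw [pow_mul, map_pow, pow_two, map_mul]
  rfl

/-- an element of order `t (q³ - 1) / 2` in a cover of `PΩ₈⁺(q)` -/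
theorem exists_orderOf_plus [Fintype F] [Fintype E] (h2 : (2 : F) ≠ 0) (b4 : Module.Basis (Fin 4) F (F × E)) {H : Type*} [Group H]
    [Finite H] (V : Subgroup H) [V.Normal] {t : ℕ} (ht : (Fintype.card E).Coprime t) (hV : Cov t H V)
    (e : H ⧸ V ≃* POmega F (quadFormPlus 4 F)) : ∃ y : H, orderOf y = ((Fintype.card E - 1) / 2) * t := by
  classical
  have hs : IsSimpleGroup (POmega F (quadFormPlus 4 F)) := Cfsg.Agent.S0296.result 4 (by norm_num)
  obtain ⟨g, hg⟩ := IsCyclic.exists_generator (α := Eˣ)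
  have hgo : orderOf g = Fintype.card E - 1 := by
    rw [orderOf_eq_card_of_forall_mem_zpowers hg, Nat.card_units, Nat.card_eq_fintype_card]
  have h3 : (2 : E) ≠ 0 := by
    have := (map_ne_zero (algebraMap F E)).2 h2
    rwa [map_ofNat] at this
  have hodd : Odd (Fintype.card E) := by
    rw [← Nat.not_even_iff_odd, Nat.even_iff, ← FiniteField.even_card_iff_char_two]
    intro h
    apply h3
    have := CharP.cast_eq_zero E (ringChar E)
    rw [h] at this
    exact_mod_cast this
  have hev : 2 ∣ Fintype.card E - 1 := even_iff_two_dvd.1 (Nat.Odd.sub_odd hodd odd_one)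
  have hco : orderOf (cA b4 g) = (Fintype.card E - 1) / 2 := by
    have h1 : orderOf (g ^ 2) = (Fintype.card E - 1) / 2 := by
      rw [orderOf_pow, hgo, Nat.gcd_eq_right hev]
    rw [← h1, ← orderOf_injective (Aff b4).subtype Subtype.coe_injective, ← orderOf_injective (dgU F E) dgU_injective]
    congr 1
    rw [map_pow, pow_two]
    rfl
  rw [← hco]
  refine exists_orderOf_frob (Tht b4) (Tht_injective h2 b4) V hV e (upA h2 b4).range (cA b4 g) ?_ ?_ ?_ ?_
  · rintro _ ⟨b, rfl⟩
    refine ⟨Multiplicative.ofAdd ((g ^ 2 : Eˣ) * b.toAdd), ?_⟩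
    rw [eq_mul_inv_iff_mul_eq]
    apply Subtype.ext
    have h1 := dgU_upU (F := F) (g ^ 2) b.toAdd
    have h4 : dgU F E (g ^ 2) = (cA b4 g : (Module.End F (F × E))ˣ) := by
      have := cA_eq b4 g 1
      rw [pow_one] at this
      rw [this]
    rw [h4] at h1
    exact h1.symm
  · rintro i hi0 hi _ ⟨b, rfl⟩ h
    have h1 := congrArg (Subtype.val) h
    rw [Subgroup.coe_mul, Subgroup.coe_mul, cA_eq] at h1
    have h4 := dgU_upU (F := F) (g ^ (2 * i)) b.toAdd
    have h5 : upU F E (Multiplicative.ofAdd b.toAdd) = ((upA h2 b4 b : Aff b4) : (Module.End F (F × E))ˣ) := rfl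
    rw [h5, h1, mul_left_inj, ← h5] at h4
    have h6 : b.toAdd = ((g ^ (2 * i) : Eˣ) : E) * b.toAdd := Multiplicative.ofAdd.injective (upU_injective h4)
    by_cases hb : b.toAdd = 0
    · have : b = 1 := hb
      rw [this, map_one]
    · exfalso
      have h7 : ((g ^ (2 * i) : Eˣ) : E) = 1 := mul_right_cancel₀ hb (by rw [one_mul]; exact h6.symm)
      have h8 : g ^ (2 * i) = 1 := Units.ext h7
      have h9 := orderOf_dvd_of_pow_eq_one h8
      rw [hgo] at h9
      rw [hco] at hi
      have := Nat.le_of_dvd (by omega) h9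
      omega
  · have h1 := Subgroup.card_range_dvd (upA h2 b4)
    have h4 : Nat.card (Multiplicative E) = Fintype.card E := by
      rw [Nat.card_congr (Multiplicative.toAdd (α := E))]
      exact Nat.card_eq_fintype_card
    rw [h4] at h1
    exact Nat.Coprime.coprime_dvd_left h1 ht
  · intro h
    have h1 : upA h2 b4 (Multiplicative.ofAdd 1) ∈ (upA h2 b4).range := ⟨_, rfl⟩
    rw [h, Subgroup.mem_bot] at h1
    have h4 := congrArg Subtype.val h1
    have h5 : upU F E (Multiplicative.ofAdd 1) = upU F E (1 : Multiplicative E) := by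
      rw [map_one (upU F E)]; exact h4
    exact one_ne_zero (Multiplicative.ofAdd.injective (upU_injective h5))

/-- **N2, characteristic 5.** -/
theorem nc_d4 {F : Type*} [Field F] [Fintype F] {m : ℕ} (hm : 1 ≤ m) (hF : Fintype.card F = 5 ^ m) {H : Type*}
    [Group H] [Finite H] (V : Subgroup H) [V.Normal] {t : ℕ} (ht5 : t ≠ 5) (hV : Cov t H V)
    (e : H ⧸ V ≃* POmega F (quadFormPlus 4 F)) (hub : ∀ x : H, UB5 (Fintype.card F) (orderOf x)) : False := by
  have hch : CharP F 5 := by
    obtain ⟨r, hr⟩ := CharP.exists F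
    obtain ⟨n, hpr, hn⟩ := FiniteField.card F r
    have h1 : r ∣ 5 ^ m := by rw [← hF, hn]; exact dvd_pow_self r n.pos.ne'
    have h2 := (Nat.prime_dvd_prime_iff_eq hpr Nat.prime_five).1 (hpr.dvd_of_dvd_pow h1)
    rwa [h2] at hr
  have : Fact (Nat.Prime 5) := ⟨Nat.prime_five⟩
  have h2 : (2 : F) ≠ 0 := by
    intro h
    have h1 := (CharP.cast_eq_zero_iff F 5 2).1 (by exact_mod_cast h)
    revert h1; decide
  let E := FiniteField.Extension F 5 3
  have : Fintype E := Fintype.ofFinite E
  have hE : Fintype.card E = Fintype.card F ^ 3 := by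
    rw [← Nat.card_eq_fintype_card, ← Nat.card_eq_fintype_card]
    exact FiniteField.natCard_extension F 5 3
  have hfr : Module.finrank F (F × E) = 4 := by
    rw [Module.finrank_prod, Module.finrank_self, FiniteField.finrank_extension F 5 3]
  let b4 : Module.Basis (Fin 4) F (F × E) := (Module.finBasis F (F × E)).reindex (finCongr hfr)
  obtain ⟨y, hy⟩ := exists_orderOf_plus h2 b4 V (by
    rw [hE, hF, ← pow_mul]
    exact Nat.Coprime.pow_left _ ((Nat.coprime_primes Nat.prime_five hV.prime).2 ht5.symm)) hV e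
  have h1 := hub y
  rw [hy, hE] at h1
  refine Cfsg.Agent.H411.Six.arith_five ?_ ?_ hV.prime.two_le h1
  · rw [hF]
    calc 5 = 5 ^ 1 := by norm_num
      _ ≤ 5 ^ m := Nat.pow_le_pow_right (by norm_num) hm
  · rw [hF, Nat.pow_mod]
    norm_num

end main

end Cfsg.Agent.H376.Six
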