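import Cfsg.Agent.H376.Six.Top
import Cfsg.Agent.H376.Six.Def
import Cfsg.Agent.H420.Reduce

/-!
# A prime of `q² + 1` in the radical (helper376)

* `exists_cov_prime_five`, `exists_cov_prime_two` : `t ∣ q² + 1` an odd prime, `t ∤ |S|`, `t ∤ |G / K : S|` : then there
  is an extension of an elementary abelian `t`-group by `S` (a section of `G`).
-/

set_option autoImplicit false

namespace Cfsg.Agent.H376.Six

open Cfsg.Agent.H420.QR

universe u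

theorem three_dvd_of_ap {q r : ℕ} (hq : 2 ≤ q) (hr : r.Prime) (h : r ∣ Six.ap q) : 3 ∣ r - 1 := by
  have := Fact.mk hr
  obtain ⟨-, hr3, hrq⟩ := ap_ne hq hr h
  have h1 := ap_dvd_int hq h
  have h2 : ((q : ZMod r)) ^ 2 + q + 1 = 0 := by
    have := (ZMod.intCast_zmod_eq_zero_iff_dvd ((q : ℤ) ^ 2 + q + 1) r).2 h1
    push_cast at this
    exact this
  have h3 : (q : ZMod r) ^ 3 = 1 := by linear_combination ((q : ZMod r) - 1) * h2
  have h4 : (q : ZMod r) ≠ 1 := by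
    intro h5
    rw [h5] at h2
    have h6 : ((3 : ℕ) : ZMod r) = 0 := by push_cast; linear_combination h2
    rw [ZMod.natCast_eq_zero_iff] at h6
    exact hr3 ((Nat.prime_dvd_prime_iff_eq hr Nat.prime_three).1 h6)
  have h5 : orderOf (q : ZMod r) = 3 := orderOf_eq_prime h3 h4
  have h6 : (q : ZMod r) ≠ 0 := by
    intro h0
    exact hrq ((ZMod.natCast_eq_zero_iff q r).1 h0)
  rw [← h5]
  exact ZMod.orderOf_dvd_card_sub_one h6

theorem three_dvd_of_am {q r : ℕ} (hq : 2 ≤ q) (hr : r.Prime) (h : r ∣ Six.am q) : 3 ∣ r - 1 := by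
  have := Fact.mk hr
  obtain ⟨-, hr3, hrq⟩ := am_ne hq hr h
  have h1 := am_dvd_int hq h
  have h2 : ((q : ZMod r)) ^ 2 - q + 1 = 0 := by
    have := (ZMod.intCast_zmod_eq_zero_iff_dvd ((q : ℤ) ^ 2 - q + 1) r).2 h1
    push_cast at this
    exact this
  have h3 : (-(q : ZMod r)) ^ 3 = 1 := by linear_combination (-(q : ZMod r) - 1) * h2
  have h4 : (-(q : ZMod r)) ≠ 1 := by
    intro h5
    have h7 : (q : ZMod r) = -1 := by rw [← h5, neg_neg]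
    rw [h7] at h2
    have h6 : ((3 : ℕ) : ZMod r) = 0 := by push_cast; linear_combination h2
    rw [ZMod.natCast_eq_zero_iff] at h6
    exact hr3 ((Nat.prime_dvd_prime_iff_eq hr Nat.prime_three).1 h6)
  have h5 : orderOf (-(q : ZMod r)) = 3 := orderOf_eq_prime h3 h4
  have h6 : -(q : ZMod r) ≠ 0 := by
    intro h0
    exact hrq ((ZMod.natCast_eq_zero_iff q r).1 (neg_eq_zero.1 h0))
  rw [← h5]
  exact ZMod.orderOf_dvd_card_sub_one h6

/-- an odd prime divisor of `q² + 1` does not divide `q³ ± 1` -/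
theorem sq_add_one_prime {q t : ℕ} (hq : 2 ≤ q) (ht : t.Prime) (ht2 : t ≠ 2) (h : t ∣ q ^ 2 + 1) :
    ¬ t ∣ q ^ 3 - 1 ∧ ¬ t ∣ q ^ 3 + 1 := by
  have h1 : (t : ℤ) ∣ (q : ℤ) ^ 2 + 1 := by exact_mod_cast h
  have key : ∀ s : ℤ, s ^ 2 = 1 → (t : ℤ) ∣ (q : ℤ) ^ 3 - s → False := by
    intro s hs h2
    have h3 : (t : ℤ) ∣ q + s := by
      have h4 := dvd_sub (h1.mul_left (q : ℤ)) h2
      rwa [show (q : ℤ) * ((q : ℤ) ^ 2 + 1) - ((q : ℤ) ^ 3 - s) = q + s by ring] at h4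
    have h4 : (t : ℤ) ∣ 2 := by
      have h5 := dvd_sub h1 (h3.mul_left ((q : ℤ) - s))
      rwa [show (q : ℤ) ^ 2 + 1 - (q - s) * (q + s) = 2 by linear_combination hs] at h5
    have h5 : t ∣ 2 := by exact_mod_cast h4
    exact ht2 ((Nat.prime_dvd_prime_iff_eq ht Nat.prime_two).1 h5)
  have p3 : 1 ≤ q ^ 3 := Nat.one_le_pow _ _ (by omega)
  constructor
  · intro h2
    refine key 1 (by norm_num) ?_
    have h3 : (t : ℤ) ∣ ((q ^ 3 - 1 : ℕ) : ℤ) := by exact_mod_cast h2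
    rwa [Nat.cast_sub p3, Nat.cast_pow, Nat.cast_one] at h3
  · intro h2
    refine key (-1) (by norm_num) ?_
    have h3 : (t : ℤ) ∣ ((q ^ 3 + 1 : ℕ) : ℤ) := by exact_mod_cast h2
    rwa [Nat.cast_add, Nat.cast_pow, Nat.cast_one, ← sub_neg_eq_add] at h3

variable {G : Type u} [Group G] [Finite G] {K : Subgroup G} [K.Normal] {S : Subgroup (G ⧸ K)} [S.Normal]

/-- every prime divisor `t` of `|K|` occurs at the top of `K` (task 2693, helper552) -/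
def TopPrime : Prop := ∀ {G : Type u} [Group G] [Finite G] (K : Subgroup G) [K.Normal], Group.IsSolvable ↥K →
  ∀ (S : Subgroup (G ⧸ K)) [S.Normal], IsSimpleGroup ↥S → ¬ IsMulCommutative ↥S → ∀ {a b : ℕ}, a.Prime → b.Prime →
  3 ∣ a - 1 → 3 ∣ b - 1 → a ∣ Nat.card ↥S → b ∣ Nat.card ↥S → ¬ a ∣ Nat.card ↥K → ¬ b ∣ Nat.card ↥K →
  (∀ t : ℕ, t.Prime → t ∣ Nat.card ↥K → ¬ ((∃ g : G, orderOf g = t * a) ∧ ∃ g : G, orderOf g = t * b)) →
  ∀ {t : ℕ}, t.Prime → t ∣ Nat.card ↥K → ∃ (K₁ : Subgroup G) (_ : K₁.Normal), K₁ < K ∧ (∀ x ∈ K, x ^ t ∈ K₁) ∧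
    (∀ x ∈ K, ∀ y ∈ K, x * y * x⁻¹ * y⁻¹ ∈ K₁)

/-- the common part -/
theorem exists_cov_prime (htop : TopPrime.{u}) {G : Type u} [Group G] [Finite G] {K : Subgroup G} [K.Normal] {S : Subgroup (G ⧸ K)} [S.Normal]
    (hR : Red G K S) {a b t A B : ℕ} (ha : a.Prime) (hb : b.Prime) (ht : t.Prime) (ha3 : 3 ∣ a - 1) (hb3 : 3 ∣ b - 1)
    (hta : t ≠ a) (htb : t ≠ b) (hab : a ≠ b) (haG : a ∣ Nat.card G) (hbG : b ∣ Nat.card G) (htG : t ∣ Nat.card G)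
    (hA : ∀ g : G, a ∣ orderOf g → orderOf g ∣ A) (hB : ∀ g : G, b ∣ orderOf g → orderOf g ∣ B)
    (htA : ¬ t ∣ A) (htB : ¬ t ∣ B) (hAB : ∀ p : ℕ, p.Prime → p ∣ A → p ∣ B → False) (haA : a ∣ A) (hbB : b ∣ B)
    (htS : ¬ t ∣ Nat.card ↥S) (hti : ¬ t ∣ S.index) :
    a ∣ Nat.card ↥S ∧ b ∣ Nat.card ↥S ∧ ∃ (H : Type u) (_ : Group H) (_ : Finite H) (V : Subgroup H) (_ : V.Normal),
      (∀ x ∈ V, ∀ y ∈ V, x * y = y * x) ∧ (∀ x ∈ V, x ^ t = 1) ∧ V ≠ ⊥ ∧ Nonempty (H ⧸ V ≃* ↥S) ∧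
      ∀ x : H, ∃ g : G, orderOf x ∣ orderOf g := by
  have hcoq : IsCoq G {a, b, t} := by
    refine ⟨?_, ?_, ?_⟩
    · intro r hr
      simp only [Finset.mem_insert, Finset.mem_singleton] at hr
      rcases hr with rfl | rfl | rfl <;> assumption
    · intro r hr
      simp only [Finset.mem_insert, Finset.mem_singleton] at hr
      rcases hr with rfl | rfl | rfl <;> assumption
    · have e1 : ∀ g : G, ¬ (a ∣ orderOf g ∧ b ∣ orderOf g) := fun g hg =>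
        hAB a ha haA (hg.1.trans (hB g hg.2))
      have e2 : ∀ g : G, ¬ (a ∣ orderOf g ∧ t ∣ orderOf g) := fun g hg => htA (hg.2.trans (hA g hg.1))
      have e3 : ∀ g : G, ¬ (b ∣ orderOf g ∧ t ∣ orderOf g) := fun g hg => htB (hg.2.trans (hB g hg.1))
      rintro r hr s hs hrs ⟨x, hx⟩
      have h1 : r ∣ orderOf x := hx ▸ Dvd.intro s rfl
      have h2 : s ∣ orderOf x := hx ▸ Dvd.intro_left r rfl
      simp only [Finset.mem_insert, Finset.mem_singleton] at hr hs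
      rcases hr with rfl | rfl | rfl <;> rcases hs with rfl | rfl | rfl
      · exact hrs rfl
      · exact e1 x ⟨h1, h2⟩
      · exact e2 x ⟨h1, h2⟩
      · exact e1 x ⟨h2, h1⟩
      · exact hrs rfl
      · exact e3 x ⟨h1, h2⟩
      · exact e2 x ⟨h2, h1⟩
      · exact e3 x ⟨h2, h1⟩
      · exact hrs rfl
  have hcard : 3 ≤ ({a, b, t} : Finset ℕ).card := by
    rw [Finset.card_insert_of_notMem (by simp [hab, Ne.symm hta]), Finset.card_insert_of_notMem (by simp [Ne.symm htb]),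
      Finset.card_singleton]
  have hm : a ∈ ({a, b, t} : Finset ℕ) ∧ b ∈ ({a, b, t} : Finset ℕ) ∧ t ∈ ({a, b, t} : Finset ℕ) := by simp
  -- `t` divides `|K|`
  have htKi : t ∣ Nat.card ↥K * S.index := by
    have h1 := htG
    rw [card_eq_mul (K := K) (S := S)] at h1
    exact (ht.dvd_mul.1 h1).resolve_left htS
  have htK : t ∣ Nat.card ↥K := (ht.dvd_mul.1 htKi).resolve_right hti
  have haKi : ¬ a ∣ Nat.card ↥K * S.index := fun h =>
    hta (hR.coc' _ hcoq hcard t hm.2.2 a hm.1 htKi h)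
  have hbKi : ¬ b ∣ Nat.card ↥K * S.index := fun h =>
    htb (hR.coc' _ hcoq hcard t hm.2.2 b hm.2.1 htKi h)
  have haS : a ∣ Nat.card ↥S := by
    have h1 := haG
    rw [card_eq_mul (K := K) (S := S)] at h1
    exact (ha.dvd_mul.1 h1).resolve_right haKi
  have hbS : b ∣ Nat.card ↥S := by
    have h1 := hbG
    rw [card_eq_mul (K := K) (S := S)] at h1
    exact (hb.dvd_mul.1 h1).resolve_right hbKi
  refine ⟨haS, hbS, ?_⟩
  obtain ⟨K₁, hn, hlt, hpow, hcomm⟩ := htop K hR.solv S hR.simple hR.nonab ha hb ha3 hb3 haS hbS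
    (fun h => haKi (h.mul_right _)) (fun h => hbKi (h.mul_right _)) (by
      rintro p hp - ⟨⟨g, hg⟩, ⟨k, hk⟩⟩
      have h1 := hA g (hg ▸ Dvd.intro_left p rfl)
      have h2 := hB k (hk ▸ Dvd.intro_left p rfl)
      rw [hg] at h1
      rw [hk] at h2
      exact hAB p hp ((Dvd.intro a rfl).trans h1) ((Dvd.intro b rfl).trans h2)) ht htK
  exact exists_ext K S K₁ hlt hpow hcomm

/-- **A prime of `(q² + 1) / 2` in the radical**, `q = 5 ^ m`. -/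
theorem exists_cov_prime_five (htop : TopPrime.{u}) {q : ℕ} (hX : X5 q G) (hR : Red G K S) {t : ℕ} (ht : t.Prime)
    (htq : t ∣ (q ^ 2 + 1) / 2) (htS : ¬ t ∣ Nat.card ↥S) (hti : ¬ t ∣ S.index) :
    ∃ (H : Type u) (_ : Group H) (_ : Finite H) (V : Subgroup H) (_ : V.Normal), Cov t H V ∧
      Nonempty (H ⧸ V ≃* ↥S) ∧ ∀ x : H, UB5 q (orderOf x) := by
  obtain ⟨h5, h4⟩ := odd_of_pow_five hX.pow
  have h2 : 2 ≤ q := by omega
  obtain ⟨a, ha, haq⟩ := exists_prime_ap h2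
  obtain ⟨b, hb, hbq⟩ := exists_prime_am (q := q) (by omega)
  have haA := haq.trans (ap_dvd_half h2 (by omega))
  have hbB := hbq.trans (am_dvd_half h2 (by omega))
  have hcop := coprime_half (show q % 2 = 1 by omega)
  have hq2 : q ^ 2 % 4 = 1 := by rw [Nat.pow_mod, h4]
  have ht2 : t ≠ 2 := by
    rintro rfl
    omega
  have htq' : t ∣ q ^ 2 + 1 := htq.trans (Nat.div_dvd_of_dvd (by omega))
  obtain ⟨hm, hp⟩ := sq_add_one_prime h2 ht ht2 htq'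
  have p3 : q ^ 3 % 2 = 1 := by rw [Nat.pow_mod, show q % 2 = 1 by omega]
  have htA : ¬ t ∣ (q ^ 3 - 1) / 2 := fun h => hm (h.trans (Nat.div_dvd_of_dvd (by omega)))
  have htB : ¬ t ∣ (q ^ 3 + 1) / 2 := fun h => hp (h.trans (Nat.div_dvd_of_dvd (by omega)))
  have hAB : ∀ p : ℕ, p.Prime → p ∣ (q ^ 3 - 1) / 2 → p ∣ (q ^ 3 + 1) / 2 → False := by
    intro p hp h1 h2
    have := Nat.dvd_gcd h1 h2
    rw [hcop] at this
    exact hp.one_lt.ne' (Nat.dvd_one.1 this)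
  obtain ⟨g₁, hg₁⟩ := hX.a
  obtain ⟨g₂, hg₂⟩ := hX.b
  obtain ⟨g₃, hg₃⟩ := hX.c
  obtain ⟨haS, hbS, H, hg, hfin, V, hVn, hc, hpw, hV, ⟨e⟩, ho⟩ := exists_cov_prime htop hR (A := (q ^ 3 - 1) / 2)
    (B := (q ^ 3 + 1) / 2) ha hb ht (three_dvd_of_ap h2 ha haq)
    (three_dvd_of_am h2 hb hbq) (fun h => htA (h ▸ haA)) (fun h => htB (h ▸ hbB))
    (fun h => hAB a ha haA (h ▸ hbB)) (haA.trans (hg₁ ▸ orderOf_dvd_natCard g₁))
    (hbB.trans (hg₂ ▸ orderOf_dvd_natCard g₂)) (htq.trans (hg₃ ▸ orderOf_dvd_natCard g₃))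
    (fun g hg => UB5.ap hX.pow (hX.ub g) ha haq hg) (fun g hg => UB5.am hX.pow (hX.ub g) hb hbq hg)
    htA htB hAB haA hbB htS hti
  have hub' : ∀ x : H, UB5 q (orderOf x) := fun x => by
    obtain ⟨g, hgx⟩ := ho x
    exact UB5.mono (hX.ub g) hgx
  have := Fact.mk ha
  have := Fact.mk hb
  obtain ⟨x, hx⟩ := exists_prime_orderOf_dvd_card' (G := ↥S) a haS
  obtain ⟨y, hy⟩ := exists_prime_orderOf_dvd_card' (G := ↥S) b hbS
  refine ⟨H, hg, hfin, V, hVn, ⟨ht, hc, hpw, noncentral_five hX.pow V ht hpw hV ⟨e.symm x, a, ha, haq, ?_⟩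
    ⟨e.symm y, b, hb, hbq, ?_⟩ hub'⟩, ⟨e⟩, hub'⟩
  · rw [MulEquiv.orderOf_eq, hx]
  · rw [MulEquiv.orderOf_eq, hy]

/-- **A prime of `q² + 1` in the radical**, `q = 2 ^ m`. -/
theorem exists_cov_prime_two (htop : TopPrime.{u}) {q : ℕ} (hX : X2 q G) (hR : Red G K S) {t : ℕ} (ht : t.Prime)
    (htq : t ∣ q ^ 2 + 1) (htS : ¬ t ∣ Nat.card ↥S) (hti : ¬ t ∣ S.index) :
    ∃ (H : Type u) (_ : Group H) (_ : Finite H) (V : Subgroup H) (_ : V.Normal), Cov t H V ∧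
      Nonempty (H ⧸ V ≃* ↥S) ∧ ∀ x : H, UB2 q (orderOf x) := by
  obtain ⟨hq4, he⟩ : 4 ≤ q ∧ q % 2 = 0 := by
    obtain ⟨m, hm, rfl⟩ := hX.pow
    constructor
    · calc 4 = 2 ^ 2 := by norm_num
        _ ≤ 2 ^ m := Nat.pow_le_pow_right (by norm_num) hm
    · exact Nat.mod_eq_zero_of_dvd (dvd_pow_self 2 (by omega))
  have h2 : 2 ≤ q := by omega
  obtain ⟨a, ha, haq⟩ := exists_prime_ap h2
  obtain ⟨b, hb, hbq⟩ := exists_prime_am (q := q) (by omega)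
  have haA := haq.trans (ap_dvd_cube h2)
  have hbB := hbq.trans (am_dvd_cube h2)
  have hq2 : q ^ 2 % 2 = 0 := by rw [Nat.pow_mod, he]
  have ht2 : t ≠ 2 := by
    rintro rfl
    omega
  obtain ⟨htA, htB⟩ := sq_add_one_prime h2 ht ht2 htq
  have p3 : q ^ 3 % 2 = 0 := by rw [Nat.pow_mod, he]
  have p3' : 1 ≤ q ^ 3 := Nat.one_le_pow _ _ (by omega)
  have hAB : ∀ p : ℕ, p.Prime → p ∣ q ^ 3 - 1 → p ∣ q ^ 3 + 1 → False := by
    intro p hp h1 h2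
    have h3 := Nat.dvd_sub h2 h1
    rw [show q ^ 3 + 1 - (q ^ 3 - 1) = 2 by omega] at h3
    rw [(Nat.prime_dvd_prime_iff_eq hp Nat.prime_two).1 h3] at h1
    omega
  obtain ⟨g₁, hg₁⟩ := hX.a
  obtain ⟨g₂, hg₂⟩ := hX.b
  obtain ⟨g₃, hg₃⟩ := hX.c
  obtain ⟨haS, hbS, H, hg, hfin, V, hVn, hc, hpw, hV, ⟨e⟩, ho⟩ := exists_cov_prime htop hR (A := q ^ 3 - 1)
    (B := q ^ 3 + 1) ha hb ht (three_dvd_of_ap h2 ha haq)
    (three_dvd_of_am h2 hb hbq) (fun h => htA (h ▸ haA)) (fun h => htB (h ▸ hbB))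
    (fun h => hAB a ha haA (h ▸ hbB)) (haA.trans (hg₁ ▸ orderOf_dvd_natCard g₁))
    (hbB.trans (hg₂ ▸ orderOf_dvd_natCard g₂)) (htq.trans (hg₃ ▸ orderOf_dvd_natCard g₃))
    (fun g hg => UB2.ap h2 (hX.ub g) ha haq hg) (fun g hg => UB2.am h2 (hX.ub g) hb hbq hg)
    htA htB hAB haA hbB htS hti
  have hub' : ∀ x : H, UB2 q (orderOf x) := fun x => by
    obtain ⟨g, hgx⟩ := ho x
    exact UB2.mono (hX.ub g) hgx
  have := Fact.mk ha
  have := Fact.mk hb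
  obtain ⟨x, hx⟩ := exists_prime_orderOf_dvd_card' (G := ↥S) a haS
  obtain ⟨y, hy⟩ := exists_prime_orderOf_dvd_card' (G := ↥S) b hbS
  refine ⟨H, hg, hfin, V, hVn, ⟨ht, hc, hpw, noncentral_two hX.pow V ht hpw hV ⟨e.symm x, a, ha, haq, ?_⟩
    ⟨e.symm y, b, hb, hbq, ?_⟩ hub'⟩, ⟨e⟩, hub'⟩
  · rw [MulEquiv.orderOf_eq, hx]
  · rw [MulEquiv.orderOf_eq, hy]

end Cfsg.Agent.H376.Six
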