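import Cfsg.Agent.H426.SixMain

/-!
# The list of the characteristic `p` factors, with the parity of `q` (helper376)

`main'` : as `Cfsg.Agent.H426.SixMain.main` (helper426), with `|F|` odd in the case `PΩ₇(q)`.
-/

set_option autoImplicit false

namespace Cfsg.Agent.H376.Six.Sharp

open Cfsg Cfsg.Agent.H414.LieShape Cfsg.Agent.H436 Cfsg.Agent.H426.LieFam Cfsg.Agent.H426.SixKill
  Cfsg.Agent.H424.SpecPlus Cfsg.Agent.H424.Red Cfsg.Agent.H426.SixMain Cfsg.Agent.H426

universe u v

/-- **The list**, with `|F|` odd in the case `PΩ₇(q)` (the proof of helper426). -/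
theorem main' {F : Type u} [Field F] [Fintype F] (p : ℕ) [hp : Fact p.Prime] [CharP F p] {S : Type v} [Group S]
    (h : SF F p S) (hLie : IsLieTypeChar p S) {k : ℕ} (hk : Fintype.card F = p ^ k) (hq3 : 3 ≤ Fintype.card F) :
    (∃ (K : Type) (_ : Field K) (_ : Fintype K), Fintype.card K = Fintype.card F ^ 3 ∧
        Nonempty (S ≃* Matrix.ProjectiveSpecialLinearGroup (Fin 2) K)) ∨
      (Odd (Fintype.card F) ∧ Nonempty (S ≃* POmega F (quadFormOdd 3 F))) ∨ Nonempty (S ≃* PSp 3 F) ∨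
      Nonempty (S ≃* POmega F (quadFormPlus 4 F)) ∨ Nonempty (S ≃* ↥(Lie.chevG2.group F)) ∨ Rest p k S := by
  have hpp := hp.out
  have hk1 : 1 ≤ k := by
    rcases Nat.eq_zero_or_pos k with h0 | h0
    · rw [h0, pow_zero] at hk
      omega
    · exact h0
  obtain ⟨fam, f, d, N, hI, hS⟩ := exists_fam hpp hLie
  have hcF : Nat.card F = p ^ k := by rw [Nat.card_eq_fintype_card, hk]
  have hn21 : ¬ (p = 2 ∧ k = 1) := by
    rintro ⟨rfl, rfl⟩
    rw [hk] at hq3
    omega
  have hπ : ∀ u, u.Prime → 5 ≤ u → u ≠ p → u ∣ Nat.card S → u ∣ p ^ (4 * k) - 1 ∨ u ∣ p ^ (6 * k) - 1 := by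
    intro u hu _ hup hud
    rcases h.prime u hu hud with h1 | h1 | h1
    · exact (hup h1).elim
    · left; rwa [hcF, ← pow_mul, mul_comm k 4] at h1
    · right; rwa [hcF, ← pow_mul, mul_comm k 6] at h1
  obtain ⟨u4, h4⟩ := exists_prim (q := p) (e := 4 * k) hpp.two_le (by omega) (by omega)
  obtain ⟨u6, h6⟩ := exists_prim (q := p) (e := 6 * k) hpp.two_le (by omega) (by omega)
  obtain ⟨u3, e3, h3, he3⟩ : ∃ u e, Prim p e u ∧ (e = 3 * k ∧ ¬ (p = 2 ∧ k = 2) ∨ (p = 2 ∧ k = 2) ∧ e = 3) := by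
    by_cases h22 : p = 2 ∧ k = 2
    · exact ⟨7, 3, by rw [h22.1]; exact prim_seven, Or.inr ⟨h22, rfl⟩⟩
    · obtain ⟨u, hu⟩ := exists_prim (q := p) (e := 3 * k) hpp.two_le (by omega) (by omega)
      exact ⟨u, _, hu, Or.inl ⟨rfl, h22⟩⟩
  have q4 : Prim (p ^ k) 4 u4 := prim_pow hk1 h4
  have q6 : Prim (p ^ k) 6 u6 := prim_pow hk1 h6
  have q3 : Prim (p ^ k) 3 u3 := by
    rcases he3 with ⟨rfl, -⟩ | ⟨⟨-, rfl⟩, rfl⟩
    · exact prim_pow hk1 h3
    · exact prim_pow' (by omega) h3
  have P4 := pr_of_prim hk q4 (by norm_num)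
  have P6 := pr_of_prim hk q6 (by norm_num)
  have P3 := pr_of_prim hk q3 (by norm_num)
  have hu3p : u3 ≠ p := by rintro rfl; exact h3.not_dvd (dvd_refl _)
  have hok := ok_of_spec hpp hk1 hI hS hπ
  by_cases hd6 : u6 ∣ Nat.card S
  · have hsix := classify hpp hk1 hI hS hπ h6 hd6
    have h34 : u3 ∣ Nat.card S ∨ u4 ∣ Nat.card S := h.two u3 u4 3 4 P3 P4 (by norm_num) (by norm_num) (by norm_num)
    have key3 : ¬ u3 ∣ (p ^ k) ^ 3 + 1 := not_dvd_add_of P3.five (Nat.one_le_pow _ _ hpp.pos) (q3.dvd (dvd_refl _))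
    cases hsix with
    | l2 hf =>
      left
      obtain ⟨-, -, K, _, _, _, hK, ⟨e⟩⟩ := hI
      exact ⟨K, inferInstance, inferInstance, by rw [hK, hk, ← pow_mul, hf, mul_comm], ⟨e⟩⟩
    | l3 hf =>
      exfalso
      obtain ⟨-, -, K, _, _, _, hK, ⟨e⟩⟩ := hI
      obtain ⟨g, hg⟩ := l3 (F := K) p (q := p ^ k) (by rw [hK, hf, ← pow_mul, mul_comm]) q3 q6 P3.five P6.five
      exact h.coc u3 u6 3 6 P3 P6 (by norm_num) (by norm_num) (by norm_num) (e.symm g) (by rw [MulEquiv.orderOf_eq, hg])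
    | s4 hf =>
      exfalso
      obtain ⟨-, hm2, K, _, _, _, hK, ⟨e⟩⟩ := hI
      have hQ : (p ^ f) ^ 2 = (p ^ k) ^ 3 := by rw [← pow_mul, ← pow_mul]; congr 1; omega
      have hd : u3 ∣ Nat.card (PSp 2 K) := by
        rw [← Nat.card_congr e.toEquiv]
        refine hS.dvd_of_fac q3.prime P3.five (mem_range_map (F := fun i => Fac.sub (2 * (i + 1))) (show 0 < 2 by norm_num)) ?_
        change u3 ∣ (p ^ f) ^ 2 - 1
        rw [hQ]
        exact q3.dvd (dvd_refl _)
      obtain ⟨g, hg⟩ := s4 (F := K) p (q := p ^ k) (by rw [hK]; exact hm2 rfl) (by rw [hK, hQ]) q3 P3.five hd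
      exact h.char u3 3 P3 (by norm_num) (e.symm g) (by rw [MulEquiv.orderOf_eq, hg])
    | s6 hf =>
      right; right; left
      obtain ⟨-, -, K, _, _, _, hK, ⟨e⟩⟩ := hI
      have σ : K ≃+* F := FiniteField.ringEquivOfCardEq (by rw [hK, hk, hf])
      exact ⟨e.trans (Cfsg.Agent.LieClassical.FieldTransfer.pspCongr 3 σ)⟩
    | u3 hf =>
      exfalso
      subst hf
      have key : ∀ u, u ∣ Nat.card S → u.Prime → u ≠ p → (¬ u ∣ (p ^ f) ^ 2 - 1) → ¬ u ∣ (p ^ f) ^ 3 + 1 → False := by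
        intro u hu hup hur h2 h3
        obtain ⟨x, hx, hxd⟩ := hS.exists_fac hpp hup hur hu
        obtain ⟨i, hi, rfl⟩ := List.mem_map.1 hx
        rw [List.mem_range] at hi
        rcases (show i = 0 ∨ i = 1 by omega) with rfl | rfl
        · rw [if_neg (by decide)] at hxd
          exact h2 hxd
        · rw [if_pos (by decide)] at hxd
          exact h3 hxd
      rcases h34 with h5 | h5
      · exact key u3 h5 q3.prime hu3p (q3.not_dvd_sub (by norm_num)) key3
      · exact key u4 h5 q4.prime (by rintro rfl; exact h4.not_dvd (dvd_refl _)) (q4.not_dvd_sub (by norm_num))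
          (q4.not_dvd_add (by norm_num))
    | u4 hf =>
      right; right; right; right; right
      subst hf
      exact Or.inr (Or.inl hI)
    | o7 hf =>
      right; left
      obtain ⟨-, ho, K, _, _, _, hK, ⟨e⟩⟩ := hI
      have σ : K ≃+* F := FiniteField.ringEquivOfCardEq (by rw [hK, hk, hf])
      obtain ⟨e'⟩ := Cfsg.Agent.UGT.U2.Rec.Congr.nonempty_POmegaOdd σ 3
      refine ⟨?_, ⟨e.trans e'⟩⟩
      rw [hk, ← hf]
      exact ho
    | o8 hf =>
      right; right; right; left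
      obtain ⟨-, K, _, _, _, hK, ⟨e⟩⟩ := hI
      have σ : K ≃+* F := FiniteField.ringEquivOfCardEq (by rw [hK, hk, hf])
      obtain ⟨e'⟩ := Cfsg.Agent.UGT.U2.Rec.Congr.nonempty_POmega σ (H902.Iso.plus_map σ 4)
      exact ⟨e.trans e'⟩
    | g2 hf =>
      right; right; right; right; left
      obtain ⟨-, K, _, _, _, hK, ⟨e⟩⟩ := hI
      have σ : K ≃+* F := FiniteField.ringEquivOfCardEq (by rw [hK, hk, hf])
      obtain ⟨e'⟩ := H902.Iso.chev_congr σ Lie.chevG2
      exact ⟨e.trans e'⟩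
    | f4 hf =>
      exfalso
      obtain ⟨K, _, _, _, hK, ⟨e⟩⟩ := hI
      obtain ⟨g, hg⟩ := f4 (F := K) p (q := p ^ k) (by rw [hK, ← pow_mul]; congr 1; omega) q3
      exact h.char u3 3 P3 (by norm_num) (e.symm g) (by rw [MulEquiv.orderOf_eq, hg])
    | td4 hf =>
      exfalso
      obtain ⟨K, _, _, _, hK, ⟨e⟩⟩ := hI
      obtain ⟨g, hg⟩ := SixExc.td4 (K := K) p (Q := p ^ f) (r := u3) (hpp.isPrimePow.pow (by omega)) hK q3.prime hu3p (by
        have h5 : (p ^ f) ^ 6 = (p ^ k) ^ 3 := by rw [← pow_mul, ← pow_mul]; congr 1; omega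
        rw [h5]
        exact q3.dvd (dvd_refl _))
      exact h.char u3 3 P3 (by norm_num) (e.symm g) (by rw [MulEquiv.orderOf_eq, hg])
    | sz hf =>
      right; right; right; right; right
      right; right; right
      have hp2 := hI.1
      subst hp2
      by_cases hk2 : k = 2
      · subst hk2
        have hf3 : f = 3 := by omega
        subst hf3
        exact ⟨rfl, rfl, hI⟩
      · exfalso
        have he : e3 = 3 * k := by
          rcases he3 with ⟨he, -⟩ | ⟨he, -⟩
          · exact he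
          · exact (hk2 he.2).elim
        subst he
        have key : ∀ u, u ∣ Nat.card S → u.Prime → u ≠ 2 → (¬ u ∣ (2 ^ f) ^ 1 - 1) → ¬ u ∣ (2 ^ f) ^ 2 + 1 → False := by
          intro u hu hup hur h2 h3
          obtain ⟨x, hx, hxd⟩ := hS.exists_fac hpp hup hur hu
          simp only [Fam.facs, List.mem_cons, List.not_mem_nil, or_false] at hx
          rcases hx with rfl | rfl
          · exact h2 hxd
          · exact h3 hxd
        rcases h34 with h5 | h5
        · refine key u3 h5 q3.prime hu3p ?_ ?_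
          · rw [pow_one]
            exact h3.not_dvd_sub (fun h6 => by have := Nat.le_of_dvd hS.f_pos h6; omega)
          · rw [← pow_mul, show f * 2 = k * 3 by omega, pow_mul]
            exact key3
        · refine key u4 h5 q4.prime (by rintro rfl; exact h4.not_dvd (dvd_refl _)) ?_ ?_
          · rw [pow_one]
            exact h4.not_dvd_sub (fun h6 => by have := Nat.le_of_dvd hS.f_pos h6; omega)
          · rw [← pow_mul]
            refine h4.not_dvd_add fun h6 => ?_
            rw [show 2 * (f * 2) = 6 * k by omega] at h6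
            obtain ⟨m, hm⟩ := h6
            have h7 : k * (4 * m) = k * 6 := by linarith
            have := Nat.eq_of_mul_eq_mul_left hk1 h7
            omega
    | tf4 hf =>
      exfalso
      obtain ⟨hp2, m, hm, hfm, K, _, _, hK, ⟨e⟩⟩ := hI
      obtain ⟨g, hg⟩ := SixExc.tf4 hK
      exact h.sixteen hp2 (e.symm g) (by rw [MulEquiv.orderOf_eq, hg])
    | ree hf =>
      exfalso
      subst hf
      have key : ∀ u, u ∣ Nat.card S → u.Prime → u ≠ p → (¬ u ∣ (p ^ f) ^ 1 - 1) → ¬ u ∣ (p ^ f) ^ 3 + 1 → False := by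
        intro u hu hup hur h2 h3
        obtain ⟨x, hx, hxd⟩ := hS.exists_fac hpp hup hur hu
        simp only [Fam.facs, List.mem_cons, List.not_mem_nil, or_false] at hx
        rcases hx with rfl | rfl
        · exact h2 hxd
        · exact h3 hxd
      rcases h34 with h5 | h5
      · exact key u3 h5 q3.prime hu3p (q3.not_dvd_sub (by norm_num)) key3
      · exact key u4 h5 q4.prime (by rintro rfl; exact h4.not_dvd (dvd_refl _)) (q4.not_dvd_sub (by norm_num))
          (q4.not_dvd_add (by norm_num))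
  · have h3d : u3 ∣ Nat.card S := (h.two u6 u3 6 3 P6 P3 (by norm_num) (by norm_num) (by norm_num)).resolve_left hd6
    have h4d : u4 ∣ Nat.card S := (h.two u6 u4 6 4 P6 P4 (by norm_num) (by norm_num) (by norm_num)).resolve_left hd6
    have hno6 : ∀ u, Prim p (6 * k) u → ¬ u ∣ Nat.card S := by
      intro u hu hud
      obtain ⟨x, hx, -, hex⟩ := hS.exists_ex hpp hu hud
      have h1 := hok x hx
      have h2 := Nat.le_of_dvd (ex_pos hS.f_pos hI hx) hex
      have h5 : ex f x = 6 * k := by omega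
      exact hd6 (hS.dvd_of_prim hpp hx (by omega) (h5 ▸ h6))
    have hfour := classify4 hpp hk1 hI hS hπ hno6 hn21 h4 h4d h3 h3d (by
      rcases he3 with ⟨he, -⟩ | ⟨he, he'⟩
      · exact Or.inl he
      · exact Or.inr ⟨he.2, he'⟩)
    cases hfour with
    | l4 hf =>
      right; right; right; right; right
      subst hf
      exact Or.inl hI
    | s8 hf =>
      exfalso
      obtain ⟨-, -, K, _, _, _, hK, ⟨e⟩⟩ := hI
      obtain ⟨g, hg⟩ := s8 (F := K) p (q := p ^ k) (by rw [hK, ← pow_mul]; congr 1; omega) q3 P3.five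
        (by rwa [← Nat.card_congr e.toEquiv])
      exact h.char u3 3 P3 (by norm_num) (e.symm g) (by rw [MulEquiv.orderOf_eq, hg])
    | o9 hf =>
      exfalso
      obtain ⟨-, ho, K, _, _, _, hK, ⟨e⟩⟩ := hI
      have hd : u3 ∣ Nat.card (PSp 4 K) := by
        obtain ⟨d', N', h5⟩ := sh_psp hS.f_pos hK (m := 4) (by norm_num) hpp
        refine h5.dvd_of_fac q3.prime P3.five (mem_range_map (F := fun i => Fac.sub (2 * (i + 1))) (show 2 < 4 by norm_num)) ?_
        change u3 ∣ (p ^ f) ^ 6 - 1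
        have h7 : (p ^ f) ^ 6 = (p ^ k) ^ 3 := by rw [← pow_mul, ← pow_mul]; congr 1; omega
        rw [h7]
        exact q3.dvd (dvd_refl _)
      obtain ⟨g, hg⟩ := o9 (F := K) p (q := p ^ k) (by rw [hK]; exact ho) (by rw [hK, ← pow_mul]; congr 1; omega) q3
        P3.five hd
      exact h.char u3 3 P3 (by norm_num) (e.symm g) (by rw [MulEquiv.orderOf_eq, hg])
    | m8 hf =>
      right; right; right; right; right
      exact Or.inr (Or.inr (Or.inl ⟨f, hf, hI⟩))

end Cfsg.Agent.H376.Six.Sharp
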