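import Cfsg.Agent.H376.Six.Prime
import Cfsg.Agent.H772.Six.PslTwo
import Cfsg.Agent.H876.Six.NcG2Three
import Cfsg.Agent.H390.B6.FromRed
import Cfsg.Agent.S1059
import Cfsg.Agent.S2121
import Cfsg.Agent.H934.OutB

/-!
# The sections `PSL₂(13)` and `G₂(3)`, `q = 4` (helper376)
-/

set_option autoImplicit false

namespace Cfsg.Agent.H376.Six

open Cfsg.Agent.H420.QR

universe u v

variable {G : Type u} [Group G] [Finite G] {K : Subgroup G} [K.Normal] {S : Subgroup (G ⧸ K)} [S.Normal]

theorem survivors {q : ℕ} (htop : TopPrime.{u}) (hX : X2 q G) (hR : Red G K S) (h4 : q = 4)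
    (h : (∃ (E : Type) (_ : Field E) (_ : Fintype E), Fintype.card E = 13 ∧
          Nonempty (↥S ≃* Matrix.ProjectiveSpecialLinearGroup (Fin 2) E)) ∨
        ∃ (E : Type) (_ : Field E) (_ : Fintype E), Fintype.card E = 3 ∧
          Nonempty (↥S ≃* ↥(Cfsg.Lie.chevG2.group E))) : False := by
  subst h4
  have h17 : Nat.Prime 17 := by norm_num
  rcases h with ⟨E, _, _, hE, ⟨e⟩⟩ | ⟨E, _, _, hE, ⟨e⟩⟩
  · have hS : ¬ 17 ∣ Nat.card ↥S := by
      rw [Nat.card_congr e.toEquiv]
      intro h
      have := Cfsg.Agent.H772.Six.prime_dvd_card h17 h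
      rw [hE] at this
      revert this
      decide
    have hi : ¬ 17 ∣ S.index := by
      intro h
      have h1 := h.trans (index_dvd_out S hR.cent)
      have : Fact (Nat.Prime 13) := ⟨by norm_num⟩
      have : CharP E 13 := charP_of_card_eq_prime_pow (f := 1) (by rw [hE, pow_one])
      rw [Cfsg.Agent.H934.OutB.card_out_congr e, Cfsg.Agent.H270.Crit.LTwo.card_out (p := 13) (f := 1) le_rfl (by rw [hE, pow_one])
        (by norm_num)] at h1
      revert h1
      decide
    obtain ⟨H, _, _, V, _, hV, ⟨e'⟩, hub⟩ := exists_cov_prime_two htop hX hR h17 (by norm_num) hS hi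
    exact Cfsg.Agent.H772.Six.cov_psl_thirteen hE V hV (e'.trans e) hub
  · have hS : ¬ 17 ∣ Nat.card ↥S := by
      rw [Nat.card_congr e.toEquiv, Cfsg.Agent.S1059.result (F := E) rfl, hE]
      decide
    have hi : ¬ 17 ∣ S.index := by
      intro h
      have h1 := h.trans (index_dvd_out S hR.cent)
      have : Fact (Nat.Prime 3) := ⟨by norm_num⟩
      have : CharP E 3 := charP_of_card_eq_prime_pow (f := 1) (by rw [hE, pow_one])
      rw [Cfsg.Agent.H934.OutB.card_out_congr e, Cfsg.Agent.S2121.result (F := E) 3 1 (by rw [hE, pow_one]) (by norm_num)] at h1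
      revert h1
      decide
    obtain ⟨H, _, _, V, _, hV, ⟨e'⟩, hub⟩ := exists_cov_prime_two htop hX hR h17 (by norm_num) hS hi
    exact Cfsg.Agent.H876.Six.nc_g2_three hE V hV (e'.trans e) hub

end Cfsg.Agent.H376.Six
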